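import Mathlib.RingTheory.Smooth.Locus
import Mathlib.RingTheory.Smooth.Field
import Mathlib.RingTheory.Etale.Descent
import Mathlib.RingTheory.TensorProduct.Quotient
import Mathlib.FieldTheory.PurelyInseparable.Basic
import Mathlib

/-!
# Generic smoothness after a finite purely inseparable extension
-/

universe u

open TensorProduct

namespace Groth.Agent.SmoothStrat4

/-- A nonempty algebra of finite type over a perfect field becomes, after killing nilpotents, smooth
on some nonempty basic open. -/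
theorem exists_smooth_of_perfect (P B : Type u) [Field P] [PerfectField P] [CommRing B] [Algebra P B]
    [Algebra.FiniteType P B] [IsReduced B] [Nontrivial B] :
    ∃ s : B, ¬ IsNilpotent s ∧ Algebra.Smooth P (Localization.Away s) := by
  haveI : IsNoetherianRing B := Algebra.FiniteType.isNoetherianRing P B
  haveI : Algebra.FinitePresentation P B := Algebra.FinitePresentation.of_finiteType.1 inferInstance
  obtain ⟨⟨Q, hQ⟩⟩ := Ideal.nonempty_minimalPrimes (I := (⊥ : Ideal B)) bot_ne_top
  haveI := hQ.1.1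
  let BQ := Localization.AtPrime Q
  haveI : Ring.KrullDimLE 0 BQ := Ring.krullDimLE_zero_iff.2 fun J hJ => by
    haveI := hJ
    have h0 := (IsLocalization.isPrime_iff_isPrime_disjoint Q.primeCompl BQ J).1 hJ
    have h1 : J.comap (algebraMap B BQ) ≤ Q := fun x hx => by
      by_contra hne
      exact Set.disjoint_left.1 h0.2 hne hx
    have h2 : J.comap (algebraMap B BQ) = Q := le_antisymm h1 (hQ.2 ⟨inferInstance, bot_le⟩ h1)
    have h3 : J = IsLocalRing.maximalIdeal BQ := by
      rw [← IsLocalization.map_comap Q.primeCompl BQ J]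
      show Ideal.map _ (J.comap (algebraMap B BQ)) = _
      rw [h2]
      exact Localization.AtPrime.map_eq_maximalIdeal
    rw [h3]; infer_instance
  haveI : IsReduced BQ := isReduced_localizationPreserves Q.primeCompl BQ inferInstance
  letI : Field BQ := IsField.toField ((IsLocalRing.isField_iff_maximalIdeal_eq).2 (by
    rw [← Ring.KrullDimLE.nilradical_eq_maximalIdeal, nilradical_eq_zero]; rfl))
  haveI : Algebra.EssFiniteType B BQ := Algebra.EssFiniteType.of_isLocalization BQ Q.primeCompl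
  haveI : Algebra.EssFiniteType P BQ := Algebra.EssFiniteType.comp P B BQ
  have hgen : (⟨Q, hQ.1.1⟩ : PrimeSpectrum B) ∈ Algebra.smoothLocus P B :=
    Algebra.FormallySmooth.of_perfectField
  obtain ⟨_, ⟨s, rfl⟩, hs, hsub⟩ :=
    PrimeSpectrum.isTopologicalBasis_basic_opens.exists_subset_of_mem_open hgen Algebra.isOpen_smoothLocus
  refine ⟨s, fun hn => hs ?_, Algebra.basicOpen_subset_smoothLocus_iff_smooth.1 hsub⟩
  obtain ⟨n, hn⟩ := hn
  exact hQ.1.1.mem_of_pow_mem n (hn ▸ Q.zero_mem)

/-- After inverting a non-nilpotent element, and over the perfect closure, killing nilpotents gives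
a smooth algebra. -/
theorem exists_smooth_red_perfect (K P A : Type u) [Field K] [Field P] [Algebra K P]
    [IsPurelyInseparable K P] [PerfectField P] [CommRing A] [Algebra K A] [Algebra.FiniteType K A]
    [Nontrivial A] :
    ∃ (f : A) (S : Type u) (_ : CommRing S) (_ : Algebra P S)
      (ψ : P ⊗[K] Localization.Away f →ₐ[P] S),
      ¬ IsNilpotent f ∧ Function.Surjective ψ ∧ Algebra.Smooth P S ∧
      RingHom.ker ψ ≤ nilradical (P ⊗[K] Localization.Away f) := by
  haveI : Nontrivial (P ⊗[K] A) :=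
    (Algebra.TensorProduct.includeRight_injective (A := P) (B := A) (algebraMap K P).injective).nontrivial
  let B := (P ⊗[K] A) ⧸ nilradical (P ⊗[K] A)
  let π : (P ⊗[K] A) →ₐ[P] B := Ideal.Quotient.mkₐ P _
  haveI : Algebra.FiniteType P B := Algebra.FiniteType.of_surjective π Ideal.Quotient.mk_surjective
  haveI : IsReduced B := (Ideal.isRadical_iff_quotient_reduced _).1 (Ideal.radical_isRadical _)
  haveI : Nontrivial B := Ideal.Quotient.nontrivial_iff.2
    ((Ideal.ne_top_iff_one _).2 fun h => one_ne_zero (by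
      obtain ⟨k, hk⟩ := mem_nilradical.1 h
      rwa [one_pow] at hk))
  obtain ⟨s, hs, hsm⟩ := exists_smooth_of_perfect P B
  obtain ⟨s', hs'⟩ := Ideal.Quotient.mk_surjective s
  obtain ⟨n, hn, f, hf⟩ := IsPurelyInseparable.exists_pow_mem_range_tensorProduct
    (Algebra.TensorProduct.comm K P A s')
  have hf' : (1 : P) ⊗ₜ[K] f = s' ^ n := by
    apply (Algebra.TensorProduct.comm K P A).injective
    rw [Algebra.TensorProduct.comm_tmul, map_pow, ← hf]
    rfl
  have hfs : π ((1 : P) ⊗ₜ[K] f) = s ^ n := by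
    rw [hf', map_pow]; exact congrArg (· ^ n) hs'
  let Bs := Localization.Away s
  have hu : IsUnit (algebraMap B Bs (π ((1 : P) ⊗ₜ[K] f))) := by
    rw [hfs, map_pow]; exact (IsLocalization.Away.algebraMap_isUnit s).pow n
  let g : A →ₐ[K] Bs := ((IsScalarTower.toAlgHom P B Bs).comp π).restrictScalars K |>.comp
    Algebra.TensorProduct.includeRight
  have hg : ∀ y : Submonoid.powers f, IsUnit (g y) := by
    rintro ⟨_, m, rfl⟩
    rw [map_pow]; exact hu.pow m
  let g' : Localization.Away f →ₐ[K] Bs := IsLocalization.liftAlgHom hg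
  let ψ : P ⊗[K] Localization.Away f →ₐ[P] Bs :=
    Algebra.TensorProduct.lift (Algebra.ofId P Bs) g' fun _ _ => .all _ _
  let ι : P ⊗[K] A →ₐ[P] P ⊗[K] Localization.Away f :=
    Algebra.TensorProduct.map (AlgHom.id P P) (IsScalarTower.toAlgHom K A _)
  have hι : ψ.comp ι = (IsScalarTower.toAlgHom P B Bs).comp π := by
    apply Algebra.TensorProduct.ext (Subsingleton.elim _ _)
    refine AlgHom.ext fun a => ?_
    show ψ (ι ((1 : P) ⊗ₜ[K] a)) = _
    simp only [ι, Algebra.TensorProduct.map_tmul, AlgHom.id_apply, ψ,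
      Algebra.TensorProduct.lift_tmul, map_one, one_mul]
    exact IsLocalization.lift_eq _ a
  have hι' : ∀ x, ψ (ι x) = algebraMap B Bs (π x) := fun x => AlgHom.congr_fun hι x
  have hclear : ∀ x : P ⊗[K] Localization.Away f, ∃ (m : ℕ) (y : P ⊗[K] A),
      x * ι ((1 : P) ⊗ₜ[K] f ^ m) = ι y := by
    intro x
    induction x with
    | zero => exact ⟨0, 0, by simp⟩
    | tmul p z =>
      obtain ⟨⟨a, _, m, rfl⟩, h⟩ := IsLocalization.surj (Submonoid.powers f) z
      refine ⟨m, p ⊗ₜ a, ?_⟩
      simp only [map_pow, map_mul] at h ⊢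
      simp only [ι, Algebra.TensorProduct.map_tmul, AlgHom.id_apply, map_pow,
        Algebra.TensorProduct.tmul_mul_tmul, Algebra.TensorProduct.tmul_pow, one_pow, mul_one,
        IsScalarTower.coe_toAlgHom']
      exact congrArg (p ⊗ₜ[K] ·) h
    | add a b ha hb =>
      obtain ⟨m, y, hy⟩ := ha
      obtain ⟨k, z, hz⟩ := hb
      refine ⟨m + k, y * ((1 : P) ⊗ₜ[K] f ^ k) + z * ((1 : P) ⊗ₜ[K] f ^ m), ?_⟩
      have h1 : ((1 : P) ⊗ₜ[K] f ^ (m + k)) = ((1 : P) ⊗ₜ[K] f ^ m) * ((1 : P) ⊗ₜ[K] f ^ k) := by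
        simp only [Algebra.TensorProduct.tmul_mul_tmul, one_mul, pow_add]
      simp only [h1, map_add, map_mul, add_mul, ← mul_assoc, hy]
      rw [mul_right_comm b, hz]
  have hker : ∀ y, algebraMap B Bs (π y) = 0 → ∃ k : ℕ, IsNilpotent (((1 : P) ⊗ₜ[K] f ^ k) * y) := by
    intro y hy
    obtain ⟨⟨_, k, rfl⟩, hk⟩ := (IsLocalization.map_eq_zero_iff (Submonoid.powers s) Bs _).1 hy
    refine ⟨k, mem_nilradical.1 (Ideal.Quotient.eq_zero_iff_mem.1 ?_)⟩
    change π _ = 0
    have h1 : ((1 : P) ⊗ₜ[K] f ^ k) = ((1 : P) ⊗ₜ[K] f) ^ k := by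
      rw [Algebra.TensorProduct.tmul_pow, one_pow]
    rw [map_mul, h1, map_pow, hfs, ← pow_mul]
    obtain ⟨c, hc⟩ := Nat.exists_eq_add_of_le (Nat.le_mul_of_pos_left k hn)
    rw [hc, pow_add, mul_right_comm]
    simp only at hk
    rw [hk, zero_mul]
  refine ⟨f, Bs, inferInstance, inferInstance, ψ, fun hnil => hs ?_, ?_, hsm, ?_⟩
  · have h2 : IsNilpotent (π ((1 : P) ⊗ₜ[K] f)) :=
      (hnil.map (Algebra.TensorProduct.includeRight : A →ₐ[K] P ⊗[K] A)).map π
    rw [hfs] at h2
    exact (IsNilpotent.pow_iff_pos hn.ne').1 h2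
  · intro b
    obtain ⟨m, y, hy⟩ := IsLocalization.Away.surj s b
    obtain ⟨y, rfl⟩ : ∃ z, π z = y := Ideal.Quotient.mk_surjective y
    -- `b * s ^ m = y`, so `b = y * s ^ (m * n - m) / f ^ m`
    obtain ⟨c, hc⟩ := Nat.exists_eq_add_of_le (Nat.le_mul_of_pos_left m hn)
    let u : P ⊗[K] Localization.Away f :=
      (1 : P) ⊗ₜ[K] IsLocalization.Away.invSelf (S := Localization.Away f) f
    have hu1 : u * ι ((1 : P) ⊗ₜ[K] f) = 1 := by
      simp only [u, ι, Algebra.TensorProduct.map_tmul, AlgHom.id_apply,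
        Algebra.TensorProduct.tmul_mul_tmul, mul_one, IsScalarTower.coe_toAlgHom']
      rw [mul_comm, IsLocalization.Away.mul_invSelf]
      rfl
    refine ⟨ι (y * s' ^ c) * u ^ m, ?_⟩
    have h3 : ψ (u ^ m) * algebraMap B Bs (s ^ (n * m)) = 1 := by
      rw [pow_mul, ← hfs, map_pow, map_pow, ← hι', ← map_pow, ← map_pow, ← map_mul, ← mul_pow,
        hu1, one_pow, map_one]
    rw [map_mul ψ, hι', map_mul π, map_mul (algebraMap B Bs), ← hy]
    rw [show π (s' ^ c) = s ^ c by rw [map_pow]; exact congrArg (· ^ c) hs', mul_assoc, mul_assoc,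
      ← mul_assoc (algebraMap B Bs s ^ m), map_pow, ← pow_add, ← hc, ← map_pow,
      mul_comm (algebraMap B Bs (s ^ (n * m))), h3, mul_one]
  · intro x hx
    obtain ⟨m, y, hy⟩ := hclear x
    have h0 : algebraMap B Bs (π y) = 0 := by
      rw [← hι', ← hy, map_mul, (RingHom.mem_ker).1 hx, zero_mul]
    obtain ⟨k, hk⟩ := hker y h0
    have h1 := hk.map ι
    rw [map_mul, ← hy] at h1
    have hu2 : ∀ j : ℕ, IsUnit (ι ((1 : P) ⊗ₜ[K] f ^ j)) := fun j => by
      simp only [ι, Algebra.TensorProduct.map_tmul, AlgHom.id_apply, IsScalarTower.coe_toAlgHom', map_pow]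
      have h4 := ((IsLocalization.Away.algebraMap_pow_isUnit (S := Localization.Away f) f j)).map
        (Algebra.TensorProduct.includeRight : Localization.Away f →ₐ[K] P ⊗[K] Localization.Away f)
      simpa only [Algebra.TensorProduct.includeRight_apply, Algebra.TensorProduct.tmul_pow, one_pow, map_pow] using h4
    obtain ⟨N, hN⟩ := h1
    rw [mul_pow, mul_pow] at hN
    exact mem_nilradical.2 ⟨N, ((hu2 m).pow N).mul_left_eq_zero.1
      (((hu2 k).pow N).mul_right_eq_zero.1 hN)⟩

variable {K P : Type u} [Field K] [Field P] [Algebra K P]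

/-- Finitely many elements of a base change to an algebraic extension are defined over a finite
subextension. -/
theorem exists_intermediate [Algebra.IsAlgebraic K P] {A : Type u} [CommRing A] [Algebra K A]
    (T : Finset (P ⊗[K] A)) :
    ∃ L : IntermediateField K P, FiniteDimensional K L ∧
      ∀ t ∈ T, t ∈ Set.range (Algebra.TensorProduct.map L.val (AlgHom.id K A)) := by
  classical
  choose S hS using fun t : P ⊗[K] A => TensorProduct.exists_finset t
  let c : Finset P := T.biUnion fun t => (S t).image Prod.fst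
  let L := IntermediateField.adjoin K (c : Set P)
  refine ⟨L, IntermediateField.finiteDimensional_adjoin fun x _ => Algebra.IsIntegral.isIntegral x,
    fun t ht => ?_⟩
  rw [hS t]
  have hmem : ∀ i ∈ S t, i.1 ∈ L := fun i hi => IntermediateField.subset_adjoin K _
    (Finset.mem_biUnion.2 ⟨t, ht, Finset.mem_image_of_mem _ hi⟩)
  refine ⟨∑ i ∈ (S t).attach, (⟨i.1.1, hmem i.1 i.2⟩ : L) ⊗ₜ[K] i.1.2, ?_⟩
  rw [map_sum, ← Finset.sum_attach (S t)]
  rfl

/-- Descending a smooth quotient by nilpotents to a subfield over which the kernel is defined. -/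
theorem exists_smooth_descend {L : Type u} [Field L] [Algebra K L] [Algebra L P] [IsScalarTower K L P]
    {A : Type u} [CommRing A] [Algebra K A] {SP : Type u} [CommRing SP] [Algebra P SP]
    [Algebra.Smooth P SP] (ψP : P ⊗[K] A →ₐ[P] SP) (hsurj : Function.Surjective ψP)
    (hker : RingHom.ker ψP ≤ nilradical (P ⊗[K] A)) (T : Finset (P ⊗[K] A))
    (hT : Ideal.span (T : Set (P ⊗[K] A)) = RingHom.ker ψP) (t : T → L ⊗[K] A)
    (ht : ∀ i, Algebra.TensorProduct.map (Algebra.ofId L P) (AlgHom.id K A) (t i) = (i : P ⊗[K] A)) :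
    ∃ (S : Type u) (_ : CommRing S) (_ : Algebra L S) (ψ : L ⊗[K] A →ₐ[L] S),
      Function.Surjective ψ ∧ Algebra.Smooth L S ∧ ∀ x, ψ x = 0 → IsNilpotent x := by
  let j : L ⊗[K] A →ₐ[L] P ⊗[K] A :=
    Algebra.TensorProduct.map (Algebra.ofId L P) (AlgHom.id K A)
  have hj : Function.Injective j :=
    Module.Flat.rTensor_preserves_injective_linearMap (M := A)
      (IsScalarTower.toAlgHom K L P).toLinearMap (algebraMap L P).injective
  let J : Ideal (L ⊗[K] A) := Ideal.span (Set.range t)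
  have hJ : J ≤ nilradical (L ⊗[K] A) := by
    refine Ideal.span_le.2 ?_
    rintro _ ⟨i, rfl⟩
    refine mem_nilradical.2 ((IsNilpotent.map_iff (f := j.toRingHom) hj).1 ?_)
    show IsNilpotent (j (t i))
    rw [show j (t i) = i.1 from ht i]
    exact mem_nilradical.1 (hker (hT ▸ Ideal.subset_span i.2))
  refine ⟨(L ⊗[K] A) ⧸ J, inferInstance, inferInstance, Ideal.Quotient.mkₐ L J,
    Ideal.Quotient.mk_surjective, ?_, fun x hx => mem_nilradical.1 (hJ (Ideal.Quotient.eq_zero_iff_mem.1 hx))⟩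
  let c : P ⊗[L] (L ⊗[K] A) ≃ₐ[P] P ⊗[K] A :=
    Algebra.TensorProduct.cancelBaseChange K L P P A
  let e1 := Algebra.TensorProduct.tensorQuotientEquiv (R := L) P (L ⊗[K] A) P J
  have hcj : ∀ x, c ((1 : P) ⊗ₜ[L] x) = j x := by
    intro x
    induction x with
    | zero => simp
    | tmul l a => simp [c, j, Algebra.smul_def]
    | add a b ha hb => simp only [TensorProduct.tmul_add, map_add, ha, hb]
  let e2 := Ideal.quotientEquivAlg
    (J.map (Algebra.TensorProduct.includeRight : L ⊗[K] A →ₐ[L] P ⊗[L] (L ⊗[K] A)))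
    (RingHom.ker ψP) c (by
      rw [← hT, Ideal.map_span, Ideal.map_span]
      congr 1
      ext x
      constructor
      · intro hx
        exact ⟨_, ⟨_, ⟨⟨x, hx⟩, rfl⟩, rfl⟩, (hcj _).trans (ht ⟨x, hx⟩)⟩
      · rintro ⟨_, ⟨_, ⟨i, rfl⟩, rfl⟩, rfl⟩
        exact ((hcj _).trans (ht i)) ▸ i.2)
  haveI : Algebra.Smooth P (P ⊗[L] ((L ⊗[K] A) ⧸ J)) :=
    Algebra.Smooth.of_equiv
      ((e1.trans e2).trans (Ideal.quotientKerAlgEquivOfSurjective hsurj)).symm
  exact Algebra.Smooth.of_smooth_tensorProduct_of_faithfullyFlat P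

/-- Generic smoothness after a finite purely inseparable extension. -/
theorem exists_smooth_red [IsPurelyInseparable K P] [PerfectField P] (A : Type u) [CommRing A]
    [Algebra K A] [Algebra.FiniteType K A] [Nontrivial A] :
    ∃ (f : A) (L : IntermediateField K P) (S : Type u) (_ : CommRing S) (_ : Algebra L S)
      (ψ : L ⊗[K] Localization.Away f →ₐ[L] S),
      ¬ IsNilpotent f ∧ FiniteDimensional K L ∧ Function.Surjective ψ ∧ Algebra.Smooth L S ∧
      ∀ x, ψ x = 0 → IsNilpotent x := by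
  classical
  obtain ⟨f, SP, _, _, ψP, hf, hsurj, hsm, hker⟩ := exists_smooth_red_perfect K P A
  haveI : Algebra.FiniteType K (Localization.Away f) :=
    Algebra.FiniteType.trans (R := K) (S := A) inferInstance inferInstance
  haveI : IsNoetherianRing (P ⊗[K] Localization.Away f) :=
    Algebra.FiniteType.isNoetherianRing P _
  obtain ⟨T, hT⟩ := (IsNoetherian.noetherian (RingHom.ker ψP) :)
  obtain ⟨L, hL, hTL⟩ := exists_intermediate T
  choose t ht using fun i : T => hTL i.1 i.2
  obtain ⟨S, _, _, ψ, h1, h2, h3⟩ := exists_smooth_descend (L := L) ψP hsurj hker T hT t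
    (fun i => ht i)
  exact ⟨f, L, S, inferInstance, inferInstance, ψ, hf, hL, h1, h2, h3⟩

end Groth.Agent.SmoothStrat4
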