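import Groth.Agent.Lib.SmoothStrat4.Main
import Groth.Agent.Lib.GenFlatStrat4.Noeth
import Groth.Agent.S7383
import Groth.Agent.S0591
import Mathlib

/-!
# Smoothness stratifications of morphisms of finite presentation by Noetherian approximation
-/

set_option autoImplicit false
set_option backward.isDefEq.respectTransparency.types false

universe u

open CategoryTheory CategoryTheory.Limits AlgebraicGeometry TopologicalSpace

namespace Groth.Agent.SmoothStrat4

/-- A morphism of finite presentation to a qcqs scheme comes from a Noetherian base. -/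
theorem exists_model {X S : Scheme.{u}} (f : X ⟶ S) [LocallyOfFinitePresentation f] [QuasiCompact f]
    [QuasiSeparated f] [CompactSpace S] [QuasiSeparatedSpace S] :
    ∃ (S₀ X₀ : Scheme.{u}) (π : S ⟶ S₀) (f₀ : X₀ ⟶ S₀) (q : X ⟶ X₀),
      IsNoetherian S₀ ∧ LocallyOfFiniteType f₀ ∧ QuasiCompact f₀ ∧ IsPullback q f f₀ π := by
  let Z₀ : Scheme.{u} := Spec (CommRingCat.of (ULift.{u} ℤ))
  haveI : IsNoetherianRing (CommRingCat.of (ULift.{u} ℤ)) :=
    isNoetherianRing_of_ringEquiv ℤ ULift.ringEquiv.symm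
  obtain ⟨I, _, _, _, D, c, hc, hD, haff, ⟨e₀⟩⟩ :=
    S7383.result (specULiftZIsTerminal.from S : S ⟶ Z₀)
  haveI : IsConnected (Iᵒᵖ) := IsCofiltered.isConnected _
  let D₁ := D ⋙ Over.forget _
  let c₁ := (Over.forget _).mapCone c
  have hc₁ : IsLimit c₁ := isLimitOfPreserves (Over.forget _) hc
  haveI : ∀ {i j : Iᵒᵖ} (a : i ⟶ j), IsAffineHom (D₁.map a) := fun a => haff _ _ a
  haveI : ∀ i, CompactSpace (D₁.obj i) := fun i => by
    let p : D₁.obj i ⟶ Z₀ := (D.obj i).hom
    haveI : QuasiCompact p := (hD i).2.1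
    exact QuasiCompact.compactSpace_of_compactSpace p
  haveI : ∀ i, QuasiSeparatedSpace (D₁.obj i) := fun i => by
    let p : D₁.obj i ⟶ Z₀ := (D.obj i).hom
    haveI : QuasiSeparated p := (hD i).2.2
    exact quasiSeparatedSpace_of_quasiSeparated p
  haveI hnoe : ∀ i, IsLocallyNoetherian (D₁.obj i) := fun i => by
    let p : D₁.obj i ⟶ Z₀ := (D.obj i).hom
    haveI : LocallyOfFinitePresentation p := (hD i).1
    exact LocallyOfFiniteType.isLocallyNoetherian p
  let e : c₁.pt ≅ S := (Over.forget _).mapIso e₀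
  let fc : X ⟶ c₁.pt := f ≫ e.inv
  obtain ⟨i, Xi, fi, g, hfi, hfiqc, _, hg⟩ := S0591.result D₁ c₁ hc₁ X fc
  haveI : IsNoetherian (D₁.obj i) := ⟨⟩
  haveI : LocallyOfFiniteType fi := inferInstance
  exact ⟨D₁.obj i, Xi, e.inv ≫ c₁.π.app i, fi, g, inferInstance, inferInstance, hfiqc,
    hg.of_iso (Iso.refl _) (Iso.refl _) e (Iso.refl _) (by simp)
      (by show (f ≫ e.inv) ≫ e.hom = 𝟙 _ ≫ f
          erw [Category.assoc, Iso.inv_hom_id, Category.comp_id])
      ((Category.comp_id _).trans (Category.id_comp _).symm)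
      (by show c₁.π.app i ≫ 𝟙 _ = e.hom ≫ e.inv ≫ c₁.π.app i
          erw [Category.comp_id, Iso.hom_inv_id_assoc])⟩

/-- Transfer of smooth stratifications along a pullback square. -/
theorem SmoothStrat.transfer {X S X₀ S₀ T T₀ : Scheme.{u}} {f : X ⟶ S} {f₀ : X₀ ⟶ S₀} {q : X ⟶ X₀}
    {π : S ⟶ S₀} (H : IsPullback q f f₀ π) (g : T ⟶ S) (g₀ : T₀ ⟶ S₀) (τ : T ⟶ T₀)
    (h : τ ≫ g₀ = g ≫ π) (hs : SmoothStrat (pullback.snd f₀ g₀)) : SmoothStrat (pullback.snd f g) := by
  let m : pullback f g ⟶ pullback f₀ g₀ :=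
    pullback.lift (pullback.fst f g ≫ q) (pullback.snd f g ≫ τ)
      (by rw [Category.assoc, H.w, pullback.condition_assoc, Category.assoc, h])
  refine hs.of_isPullback (π := m) (τ := τ) ?_
  refine IsPullback.of_right (h₁₂ := pullback.fst f₀ g₀) (h₂₂ := g₀) ?_ (pullback.lift_snd _ _ _)
    (IsPullback.of_hasPullback _ _)
  rw [pullback.lift_fst, h]
  exact (IsPullback.of_hasPullback f g).paste_horiz H

theorem SmoothStrat.comp {X S S' T : Scheme.{u}} {f : X ⟶ S} (h : S' ⟶ S) (a : T ⟶ S')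
    (hs : SmoothStrat (pullback.snd (pullback.snd f h) a)) : SmoothStrat (pullback.snd f (a ≫ h)) :=
  hs.of_isPullback (π := (pullbackLeftPullbackSndIso f h a).inv) (τ := 𝟙 T)
    (IsPullback.of_horiz_isIso ⟨by simp⟩)

/-- `exists_smoothStrat` for a point of an arbitrary scheme valued in a domain. -/
theorem exists_smoothStrat' {X S : Scheme.{u}} (f : X ⟶ S) [LocallyOfFiniteType f] [QuasiCompact f]
    (A : CommRingCat.{u}) [IsDomain A] [IsNoetherianRing A] (j : Spec A ⟶ S) :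
    ∃ (W : (Spec A).Opens) (V : Scheme.{u}) (v : V ⟶ W.toScheme),
      (⟨⊥, Ideal.isPrime_bot⟩ : PrimeSpectrum A) ∈ W ∧ Surjective v ∧ UniversallyInjective v ∧
      Mor2.IsFinLocFree v ∧ SmoothStrat (pullback.snd (pullback.snd f j) (v ≫ W.ι)) :=
  exists_smoothStrat (D := A) (pullback.snd f j)

theorem exists_cons_chain {α : Type*} [Preorder α] (P : α → α → Prop) {Z : α} {t : ℕ}
    {C : Fin (t + 1) → α} (hle : C 0 ≤ Z) (hC : Antitone C) (h0 : P Z (C 0))
    (hCg : ∀ i : Fin t, P (C i.castSucc) (C i.succ)) :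
    Antitone (Fin.cons Z C : Fin (t + 2) → α) ∧
      ∀ i : Fin (t + 1), P ((Fin.cons Z C : Fin (t + 2) → α) i.castSucc) ((Fin.cons Z C : Fin (t + 2) → α) i.succ) := by
  refine ⟨Fin.antitone_iff_succ_le.mpr fun i => ?_, fun i => ?_⟩
  · induction i using Fin.cases with
    | zero => simpa using hle
    | succ i => simpa [Fin.cons_succ, ← Fin.succ_castSucc] using hC (Fin.castSucc_le_succ i)
  · induction i using Fin.cases with
    | zero => simpa using h0
    | succ i => simpa [Fin.cons_succ, ← Fin.succ_castSucc] using hCg i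

theorem SmoothStrat.congr {X S T : Scheme.{u}} {f : X ⟶ S} {g g' : T ⟶ S} (h : g = g')
    (hs : SmoothStrat (pullback.snd f g)) : SmoothStrat (pullback.snd f g') := by
  subst h; exact hs

/-- A stratum over which a smooth stratification exists after a finite locally free covering. -/
def Good {X S : Scheme.{u}} (f : X ⟶ S) (Z Z' : Closeds S) : Prop :=
  ∃ (T : Scheme.{u}) (v : T ⟶ ((Scheme.IdealSheafData.vanishingIdeal Z).subschemeι ⁻¹ᵁ
      (Scheme.IdealSheafData.vanishingIdeal Z').support.compl).toScheme),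
    Surjective v ∧ Mor2.IsFinLocFree v ∧
    SmoothStrat (pullback.snd f (v ≫ stratum (Scheme.IdealSheafData.vanishingIdeal Z)
      (Scheme.IdealSheafData.vanishingIdeal Z')))

theorem exists_good {X S : Scheme.{u}} [IsNoetherian S] (f : X ⟶ S) [LocallyOfFiniteType f]
    [QuasiCompact f] (Z : Closeds S) (hZ : Z ≠ ⊥) : ∃ Z' : Closeds S, Z' < Z ∧ Good f Z Z' := by
  let J := Scheme.IdealSheafData.vanishingIdeal Z
  let T := J.subscheme
  let ι := J.subschemeι
  haveI : IsReduced T := RedSepLib.isReduced_vanishingIdeal_subscheme _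
  haveI : IsLocallyNoetherian T := LocallyOfFiniteType.isLocallyNoetherian ι
  haveI : CompactSpace T := QuasiCompact.compactSpace_of_compactSpace ι
  haveI : IsNoetherian T := ⟨⟩
  have hrange : Set.range ι = (Z : Set S) := by
    rw [Scheme.IdealSheafData.range_subschemeι, Scheme.IdealSheafData.coe_support_vanishingIdeal]
  haveI : Nonempty T := by
    by_contra h
    rw [not_nonempty_iff] at h
    exact hZ (Closeds.ext (by rw [← hrange, Set.range_eq_empty]; rfl))
  obtain ⟨W₁, hW₁⟩ := GenFlatStrat4.exists_integral_open T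
  haveI := hW₁
  obtain ⟨W, hW, hwW, hWle⟩ := exists_isAffineOpen_mem_and_subset (X := T)
    (x := W₁.ι (Classical.arbitrary W₁.toScheme)) (U := W₁) (Classical.arbitrary W₁.toScheme).2
  haveI : Nonempty W := ⟨⟨_, hwW⟩⟩
  haveI : Nonempty W.toScheme := ⟨⟨_, hwW⟩⟩
  haveI : IsIntegral W.toScheme :=
    haveI : Nonempty W.toScheme := ⟨⟨_, hwW⟩⟩
    isIntegral_of_isOpenImmersion (T.homOfLE hWle)
  haveI : IsDomain Γ(T, W) := W.topIso.commRingCatIsoToRingEquiv.isDomain_iff.1 inferInstance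
  haveI : IsNoetherianRing Γ(T, W) := IsLocallyNoetherian.component_noetherian ⟨W, hW⟩
  let j : Spec Γ(T, W) ⟶ S := hW.fromSpec ≫ ι
  obtain ⟨W₂, V, v, hη, hvs, -, hvf, hstr⟩ := exists_smoothStrat' f Γ(T, W) j
  let O : T.Opens := hW.fromSpec ''ᵁ W₂
  let Z' : Closeds S := ⟨ι '' (O : Set T)ᶜ, ι.isClosedEmbedding.isClosedMap _ O.2.isClosed_compl⟩
  have hpre : ι ⁻¹ᵁ (Scheme.IdealSheafData.vanishingIdeal Z').support.compl = O := by
    ext x
    show ι x ∉ ((Scheme.IdealSheafData.vanishingIdeal Z').support : Set S) ↔ x ∈ O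
    rw [Scheme.IdealSheafData.coe_support_vanishingIdeal]
    show ι x ∉ ι '' (O : Set T)ᶜ ↔ _
    rw [ι.isClosedEmbedding.injective.mem_set_image]
    exact not_not
  refine ⟨Z', ⟨?_, ?_⟩, ?_⟩
  · show ι '' _ ⊆ (Z : Set S)
    rw [← hrange]; exact Set.image_subset_range _ _
  · intro hle
    have h1 : hW.fromSpec ⟨⊥, Ideal.isPrime_bot⟩ ∈ O := ⟨_, hη, rfl⟩
    have h2 : ι (hW.fromSpec ⟨⊥, Ideal.isPrime_bot⟩) ∈ (Z : Set S) := hrange ▸ Set.mem_range_self _
    obtain ⟨x, hx, hxe⟩ := hle h2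
    exact hx (ι.isClosedEmbedding.injective hxe ▸ h1)
  · let e := (hW.fromSpec.isoImage W₂) ≪≫ T.isoOfEq hpre.symm
    have he : (v ≫ e.hom) ≫ stratum J (Scheme.IdealSheafData.vanishingIdeal Z') =
        (v ≫ W₂.ι) ≫ j := by
      simp [e, stratum, j, J, ι]
    refine ⟨V, v ≫ e.hom, inferInstance, ?_, ?_⟩
    · obtain ⟨h1, h2, h3⟩ := hvf
      exact ⟨inferInstance, inferInstance, inferInstance⟩
    · exact SmoothStrat.congr he.symm (hstr.comp j _)

theorem exists_good_chain {X S : Scheme.{u}} [IsNoetherian S] (f : X ⟶ S) [LocallyOfFiniteType f]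
    [QuasiCompact f] (Z : Closeds S) :
    ∃ (t : ℕ) (C : Fin (t + 1) → Closeds S), Antitone C ∧ C 0 = Z ∧ C (Fin.last t) = ⊥ ∧
      ∀ i : Fin t, Good f (C i.castSucc) (C i.succ) := by
  induction Z using WellFoundedLT.induction with
  | _ Z ih =>
    by_cases hZ : Z = ⊥
    · exact ⟨0, fun _ => Z, fun _ _ _ => le_rfl, rfl, hZ, fun i => i.elim0⟩
    obtain ⟨Z', hlt, hgood⟩ := exists_good f Z hZ
    obtain ⟨t, C, hC, hC0, hCt, hCg⟩ := ih Z' hlt
    obtain ⟨h1, h2⟩ := exists_cons_chain (Good f) (Z := Z) (C := C) (hC0.le.trans hlt.le) hC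
      (hC0 ▸ hgood) hCg
    exact ⟨t + 1, Fin.cons Z C, h1, rfl, by rw [← Fin.succ_last, Fin.cons_succ, hCt], h2⟩

end Groth.Agent.SmoothStrat4
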