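import Groth.Agent.Lib.EffCartier.FiniteType
import Mathlib

/-!
# Smooth stratifications and their base change
-/

set_option autoImplicit false
set_option backward.isDefEq.respectTransparency.types false

universe u

open AlgebraicGeometry CategoryTheory Limits TopologicalSpace

namespace Groth.Agent.SmoothStrat4

/-- The locally closed stratum `supp I \ supp I'` with the structure of an open subscheme of `I`. -/
noncomputable abbrev stratum {P : Scheme.{u}} (I I' : P.IdealSheafData) :
    (I.subschemeι ⁻¹ᵁ I'.support.compl).toScheme ⟶ P :=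
  (I.subschemeι ⁻¹ᵁ I'.support.compl).ι ≫ I.subschemeι

/-- Strata pull back to strata. -/
theorem exists_isPullback_stratum {P P' : Scheme.{u}} (π : P' ⟶ P) (I I' : P.IdealSheafData) :
    ∃ b, IsPullback b (stratum (I.comap π) (I'.comap π)) (stratum I I') π := by
  let b₀ : (I.comap π).subscheme ⟶ I.subscheme := (I.comapIso π).hom ≫ pullback.snd _ _
  have h₀ : IsPullback b₀ (I.comap π).subschemeι I.subschemeι π :=
    (IsPullback.of_iso_pullback
      (⟨by simp only [b₀, Category.assoc]
           rw [← pullback.condition, Scheme.IdealSheafData.comapIso_hom_fst_assoc]⟩)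
      (I.comapIso π) (Scheme.IdealSheafData.comapIso_hom_fst I π) rfl).flip
  have hU : (I.comap π).subschemeι ⁻¹ᵁ (I'.comap π).support.compl =
      b₀ ⁻¹ᵁ (I.subschemeι ⁻¹ᵁ I'.support.compl) := by
    ext x
    show (I.comap π).subschemeι x ∉ ((I'.comap π).support : Set P') ↔
      I.subschemeι (b₀ x) ∉ (I'.support : Set P)
    rw [Scheme.IdealSheafData.support_comap, ← Scheme.Hom.comp_apply, h₀.w]
    rfl
  have key : ∀ V : (I.comap π).subscheme.Opens, V = b₀ ⁻¹ᵁ (I.subschemeι ⁻¹ᵁ I'.support.compl) →
      ∃ b, IsPullback b (V.ι ≫ (I.comap π).subschemeι) (stratum I I') π := by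
    rintro _ rfl
    exact ⟨_, (isPullback_morphismRestrict b₀ _).paste_vert h₀⟩
  exact key _ hU

/-- `q` admits a finite stratification by finitely generated ideals with strata smooth over the base. -/
def SmoothStrat {P T : Scheme.{u}} (q : P ⟶ T) : Prop :=
  ∃ (t : ℕ) (J : Fin (t + 1) → P.IdealSheafData), Monotone J ∧ J (Fin.last t) = ⊤ ∧
    ((J 0).support : Set P) = Set.univ ∧ (∀ i, ∀ O : P.affineOpens, ((J i).ideal O).FG) ∧
    ∀ i : Fin t, Smooth (stratum (J i.castSucc) (J i.succ) ≫ q)

theorem comap_data {P P' : Scheme.{u}} (π : P' ⟶ P) {t : ℕ} (J : Fin (t + 1) → P.IdealSheafData)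
    (hmono : Monotone J) (hlast : J (Fin.last t) = ⊤) (hsupp : ((J 0).support : Set P) = Set.univ)
    (hfg : ∀ i, ∀ O : P.affineOpens, ((J i).ideal O).FG) :
    Monotone (fun i => (J i).comap π) ∧ (J (Fin.last t)).comap π = ⊤ ∧
      (((J 0).comap π).support : Set P') = Set.univ ∧
      ∀ i, ∀ O : P'.affineOpens, (((J i).comap π).ideal O).FG := by
  refine ⟨fun a b hab => Scheme.IdealSheafData.comap_mono π (hmono hab), by simp [hlast], ?_,
    fun i => EffCartier.isFiniteTypeIdeal_comap (hfg i) π⟩
  rw [Scheme.IdealSheafData.support_comap]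
  show π ⁻¹' ((J 0).support : Set P) = Set.univ
  rw [hsupp, Set.preimage_univ]

/-- Smooth stratifications are stable under base change. -/
theorem SmoothStrat.of_isPullback {P T P' T' : Scheme.{u}} {q : P ⟶ T} {π : P' ⟶ P}
    {q' : P' ⟶ T'} {τ : T' ⟶ T} (sq : IsPullback π q' q τ) (h : SmoothStrat q) :
    SmoothStrat q' := by
  obtain ⟨t, J, hmono, hlast, hsupp, hfg, hsm⟩ := h
  obtain ⟨h1, h2, h3, h4⟩ := comap_data π J hmono hlast hsupp hfg
  refine ⟨t, _, h1, h2, h3, h4, fun i => ?_⟩
  obtain ⟨b, hb⟩ := exists_isPullback_stratum π (J i.castSucc) (J i.succ)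
  exact MorphismProperty.of_isPullback (P := @Smooth) (hb.paste_vert sq) (hsm i)

/-- A smooth stratification from a closed chain whose strata, with their reduced structure, become
smooth after a base change. -/
theorem SmoothStrat.of_chain {P T P' T' : Scheme.{u}} [IsLocallyNoetherian P] {q : P ⟶ T}
    {π : P' ⟶ P} {q' : P' ⟶ T'} {τ : T' ⟶ T} (sq : IsPullback π q' q τ) {t : ℕ}
    (C : Fin (t + 1) → Closeds P) (hC : Antitone C) (h0 : (C 0 : Set P) = Set.univ)
    (hlast : C (Fin.last t) = ⊥)
    (hsm : ∀ i : Fin t, Smooth (pullback.snd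
      (stratum (Scheme.IdealSheafData.vanishingIdeal (C i.castSucc))
        (Scheme.IdealSheafData.vanishingIdeal (C i.succ)) ≫ q) τ)) :
    SmoothStrat q' := by
  let J : Fin (t + 1) → P.IdealSheafData := fun j => Scheme.IdealSheafData.vanishingIdeal (C j)
  have hsupp : ∀ j, (J j).support = C j := fun j =>
    Closeds.ext (Scheme.IdealSheafData.coe_support_vanishingIdeal _)
  obtain ⟨h1, h2, h3, h4⟩ := comap_data π J
    (fun a b hab => Scheme.IdealSheafData.le_support_iff_le_vanishingIdeal.mp (by rw [hsupp]; exact hC hab))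
    ((Scheme.IdealSheafData.support_eq_bot_iff _).mp (by rw [hsupp, hlast]))
    (by rw [hsupp, h0])
    (fun i O => by
      haveI : IsNoetherianRing Γ(P, O.1) := IsLocallyNoetherian.component_noetherian O
      exact IsNoetherian.noetherian _)
  refine ⟨t, _, h1, h2, h3, h4, fun i => ?_⟩
  obtain ⟨b, hb⟩ := exists_isPullback_stratum π (J i.castSucc) (J i.succ)
  have h := hb.paste_vert sq
  rw [← h.isoPullback_hom_snd]
  exact (MorphismProperty.cancel_left_of_respectsIso (P := @Smooth) _ _).2 (hsm i)

end Groth.Agent.SmoothStrat4
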