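import Groth.Agent.Lib.SmoothStrat4.Field
import Groth.Agent.Lib.SmoothStrat4.Strata
import Groth.Agent.Lib.RadStrat4.Tower
import Groth.Agent.Lib.Descend.BaseChangeAt
import Groth.Agent.Lib.OrbitTop19.Smooth
import Groth.Prelude.Def_Mor2
import Mathlib

/-!
# Smoothness stratification over an integral Noetherian affine base after a radicial covering
-/

set_option autoImplicit false
set_option backward.isDefEq.respectTransparency.types false

universe u

open AlgebraicGeometry CategoryTheory Limits TensorProduct TopologicalSpace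

namespace Groth.Agent.SmoothStrat4

/-- An immersion with open range into a reduced scheme is an open immersion. -/
theorem isOpenImmersion_of_isImmersion {A B : Scheme.{u}} [IsReduced B] (j : A ⟶ B) [IsImmersion j]
    (hj : IsOpen (Set.range j)) : IsOpenImmersion j := by
  let U : B.Opens := ⟨Set.range j, hj⟩
  let j' : A ⟶ U := IsOpenImmersion.lift U.ι j (by rw [Scheme.Opens.range_ι]; exact subset_rfl)
  have hfac : j' ≫ U.ι = j := IsOpenImmersion.lift_fac _ _ _
  haveI : IsImmersion (j' ≫ U.ι) := by rw [hfac]; infer_instance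
  haveI : IsImmersion j' := IsImmersion.of_comp j' U.ι
  haveI : Surjective j' := ⟨fun y => by
    obtain ⟨a, ha⟩ := (show U.ι y ∈ Set.range j from y.2)
    exact ⟨a, U.ι.isOpenEmbedding.injective (by rw [← Scheme.Hom.comp_apply, hfac]; exact ha)⟩⟩
  haveI : IsClosedImmersion j' := IsClosedImmersion.of_isPreimmersion _
    (by rw [j'.surjective.range_eq]; exact isClosed_univ)
  haveI : IsIso j' := isIso_of_isClosedImmersion_of_surjective j'
  rw [← hfac]; infer_instance

theorem isIso_of_isImmersion {A B : Scheme.{u}} [IsReduced B] (j : A ⟶ B) [IsImmersion j]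
    [Surjective j] : IsIso j := by
  haveI : IsClosedImmersion j := IsClosedImmersion.of_isPreimmersion _
    (by rw [j.surjective.range_eq]; exact isClosed_univ)
  exact isIso_of_isClosedImmersion_of_surjective j

variable {R L : Type u} [CommRing R] [IsDomain R] [IsNoetherianRing R] [Field L] [Algebra R L]
  [IsFractionRing R L]

/-- A reduced affine piece whose generic fibre sits openly in a smooth piece is smooth away from a
nonzero element of the base. -/
theorem exists_ne_zero_smooth {B : Type u} [CommRing B] [IsReduced B] [Algebra R B]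
    [Algebra.FiniteType R B] {XR : Scheme.{u}} (q : XR ⟶ Spec (CommRingCat.of R))
    (h : Spec (CommRingCat.of B) ⟶ XR) [IsImmersion h]
    (hq : h ≫ q = Spec.map (CommRingCat.ofHom (algebraMap R B))) {T : Scheme.{u}}
    (i : T ⟶ pullback q (Spec.map (CommRingCat.ofHom (algebraMap R L)))) [IsImmersion i]
    [Smooth (i ≫ pullback.snd _ _)]
    (hsub : pullback.fst q (Spec.map (CommRingCat.ofHom (algebraMap R L))) ⁻¹' Set.range h ⊆ Set.range i)
    (hopen : IsOpen ((i ≫ pullback.fst _ _) ⁻¹' Set.range h)) :
    ∃ c : R, c ≠ 0 ∧ ∀ p : PrimeSpectrum B, algebraMap R B c ∉ p.asIdeal →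
      Algebra.IsSmoothAt R p.asIdeal := by
  let B' := L ⊗[R] B
  let M := Algebra.algebraMapSubmonoid B (nonZeroDivisors R)
  letI : Algebra B B' := Algebra.TensorProduct.rightAlgebra
  haveI hloc : IsLocalization M B' := inferInstance
  haveI : IsReduced B' := isReduced_localizationPreserves M B' inferInstance
  -- the generic fibre of the piece is smooth
  haveI : Algebra.Smooth L B' := by
    let m := pullback.lift
      (Spec.map (CommRingCat.ofHom (Algebra.TensorProduct.includeRight : B →ₐ[R] B').toRingHom) ≫ h)
      (Spec.map (CommRingCat.ofHom (Algebra.TensorProduct.includeLeftRingHom : L →+* B')))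
      (show _ ≫ q = _ ≫ Spec.map (CommRingCat.ofHom (algebraMap R L)) by
        rw [Category.assoc, hq]
        exact (isPullback_SpecMap_of_isPushout _ _ _ _
          (CommRingCat.isPushout_tensorProduct R L B).flip).w)
    have hsq : IsPullback
        (Spec.map (CommRingCat.ofHom (Algebra.TensorProduct.includeRight : B →ₐ[R] B').toRingHom))
        (Spec.map (CommRingCat.ofHom (Algebra.TensorProduct.includeLeftRingHom : L →+* B')))
        (h ≫ q) (Spec.map (CommRingCat.ofHom (algebraMap R L))) := by
      rw [hq]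
      exact isPullback_SpecMap_of_isPushout _ _ _ _ (CommRingCat.isPushout_tensorProduct R L B).flip
    have hm : IsPullback
        (Spec.map (CommRingCat.ofHom (Algebra.TensorProduct.includeRight : B →ₐ[R] B').toRingHom))
        m h (pullback.fst q _) :=
      IsPullback.of_bot (by rw [pullback.lift_snd]; exact hsq) (pullback.lift_fst _ _ _).symm
        (IsPullback.of_hasPullback _ _)
    haveI : IsImmersion m := MorphismProperty.of_isPullback (P := @IsImmersion) hm inferInstance
    have hrm : Set.range m = pullback.fst q _ ⁻¹' Set.range h := by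
      rw [← hm.isoPullback_hom_snd, Scheme.Hom.comp_base, TopCat.coe_comp, Set.range_comp,
        hm.isoPullback.hom.surjective.range_eq, Set.image_univ, Scheme.Pullback.range_snd]
    haveI : _root_.AlgebraicGeometry.IsReduced (Spec (CommRingCat.of B')) := inferInstance
    haveI : _root_.AlgebraicGeometry.IsReduced T :=
      OrbitTop19.isReduced_of_smooth (i ≫ pullback.snd q _)
    haveI : Surjective (pullback.snd i m) := ⟨by
      rw [← Set.range_eq_univ, Scheme.Pullback.range_snd, Set.eq_univ_iff_forall]
      intro x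
      exact hsub (hrm ▸ Set.mem_range_self x)⟩
    haveI : IsIso (pullback.snd i m) := isIso_of_isImmersion _
    haveI : IsOpenImmersion (pullback.fst i m) := by
      refine isOpenImmersion_of_isImmersion _ ?_
      rw [Scheme.Pullback.range_fst, hrm]
      exact hopen
    have key : Smooth (m ≫ pullback.snd q _) := by
      have e : m ≫ pullback.snd q _ =
          inv (pullback.snd i m) ≫ pullback.fst i m ≫ i ≫ pullback.snd q _ := by
        rw [IsIso.eq_inv_comp, pullback.condition_assoc]
      rw [e]
      infer_instance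
    rw [pullback.lift_snd] at key
    exact RingHom.smooth_algebraMap.1 ((HasRingHomProperty.Spec_iff (P := @Smooth)).1 key)
  haveI : Algebra.FinitePresentation R B := Algebra.FinitePresentation.of_finiteType.1 inferInstance
  obtain ⟨I, hI⟩ := (PrimeSpectrum.isClosed_iff_zeroLocus_ideal _).1
    ((Algebra.isOpen_smoothLocus (R := R) (A := B)).isClosed_compl)
  by_cases hd : Disjoint (I : Set B) M
  · obtain ⟨Q, hQ, hIQ, hdisj⟩ := Ideal.exists_le_prime_disjoint I M hd
    have hsm : Algebra.IsSmoothAt R Q := by
      let q' : Ideal B' := Q.map (algebraMap B B')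
      haveI : q'.IsPrime := IsLocalization.isPrime_of_isPrime_disjoint M B' Q inferInstance hdisj.symm
      have hcomap : q'.comap (algebraMap B B') = Q :=
        IsLocalization.comap_map_of_isPrime_disjoint M B' inferInstance hdisj.symm
      let T' := Localization.AtPrime q'
      haveI hT : IsLocalization.AtPrime T' Q := by
        convert! IsLocalization.isLocalization_isLocalization_atPrime_isLocalization M T' q'
          using 1
        simp only [hcomap]
      haveI : IsScalarTower R B T' := inferInstance
      let e : Localization.AtPrime Q ≃ₐ[B] T' := IsLocalization.algEquiv Q.primeCompl _ T'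
      haveI : Algebra.FormallySmooth B' T' := Algebra.FormallySmooth.of_isLocalization q'.primeCompl
      haveI : Algebra.FormallySmooth L T' := Algebra.FormallySmooth.comp L B' T'
      haveI : Algebra.FormallySmooth R L := Algebra.FormallySmooth.of_isLocalization (nonZeroDivisors R)
      haveI : Algebra.FormallySmooth R T' := Algebra.FormallySmooth.comp R L T'
      exact Algebra.FormallySmooth.of_equiv (A := T') (e.restrictScalars R).symm
    have h1 : (⟨Q, hQ⟩ : PrimeSpectrum B) ∈ PrimeSpectrum.zeroLocus (I : Set B) := hIQ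
    rw [← hI] at h1
    exact absurd hsm h1
  · obtain ⟨_, hb, c, hc, rfl⟩ := Set.not_disjoint_iff.1 hd
    refine ⟨c, nonZeroDivisors.ne_zero hc, fun p hp => ?_⟩
    by_contra hn
    have h1 : p ∈ PrimeSpectrum.zeroLocus (I : Set B) := hI ▸ hn
    exact hp (h1 hb)

/-- A reduced immersed piece whose generic fibre has a smooth scheme structure is smooth over the
base away from a nonzero element. -/
theorem exists_ne_zero_smoothLocus {XR Z : Scheme.{u}} [IsReduced Z] (q : XR ⟶ Spec (CommRingCat.of R))
    [LocallyOfFiniteType q] [QuasiCompact q] (ι : Z ⟶ XR) [IsImmersion ι]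
    [LocallyOfFinitePresentation (ι ≫ q)] {T : Scheme.{u}}
    (i : T ⟶ pullback q (Spec.map (CommRingCat.ofHom (algebraMap R L)))) [IsImmersion i]
    [Smooth (i ≫ pullback.snd _ _)]
    (hrange : Set.range i = pullback.fst q (Spec.map (CommRingCat.ofHom (algebraMap R L))) ⁻¹' Set.range ι) :
    ∃ c : R, c ≠ 0 ∧ ∀ z : Z, (ι ≫ q) z ∈ PrimeSpectrum.basicOpen c → z ∈ (ι ≫ q).smoothLocus := by
  classical
  haveI : IsLocallyNoetherian XR := LocallyOfFiniteType.isLocallyNoetherian q
  haveI : CompactSpace XR := QuasiCompact.compactSpace_of_compactSpace q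
  haveI : IsNoetherian XR := ⟨⟩
  haveI : CompactSpace Z := ι.isEmbedding.isInducing.noetherianSpace.compactSpace
  obtain ⟨Ws, hWs, htop⟩ := IsCompact.elim_finite_subcover (isCompact_univ (X := Z))
    (fun W : Z.affineOpens => ((W : Z.Opens) : Set Z)) (fun W => W.1.2)
    (fun z _ => by
      obtain ⟨W, hW, hzW, -⟩ := exists_isAffineOpen_mem_and_subset (X := Z) (x := z) (U := ⊤) trivial
      exact Set.mem_iUnion.2 ⟨⟨W, hW⟩, hzW⟩) |>.imp fun s hs => And.intro trivial hs
  have hW : ∀ W : Z.affineOpens, ∃ c : R, c ≠ 0 ∧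
      ∀ z ∈ W.1, (ι ≫ q) z ∈ PrimeSpectrum.basicOpen c → z ∈ (ι ≫ q).smoothLocus := by
    rintro ⟨W, hW⟩
    let φ := Spec.preimage (hW.fromSpec ≫ ι ≫ q)
    have hφ : Spec.map φ = hW.fromSpec ≫ ι ≫ q := Spec.map_preimage _
    letI : Algebra R Γ(Z, W) := φ.hom.toAlgebra
    haveI : Algebra.FiniteType R Γ(Z, W) := by
      have h : LocallyOfFiniteType (Spec.map φ) := hφ ▸ inferInstance
      exact (HasRingHomProperty.Spec_iff (P := @LocallyOfFiniteType)).1 h
    haveI : _root_.IsReduced Γ(Z, W) := inferInstance
    have hr : Set.range (hW.fromSpec ≫ ι) = ι '' (W : Set Z) := by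
      rw [Scheme.Hom.comp_base, TopCat.coe_comp, Set.range_comp, hW.range_fromSpec]
    obtain ⟨U, hU, hUW⟩ := ι.isEmbedding.isInducing.isOpen_iff.1 W.2
    obtain ⟨c, hc, hsm⟩ := exists_ne_zero_smooth (R := R) (L := L) q (hW.fromSpec ≫ ι)
      (by rw [Category.assoc, ← hφ]; rfl) i
      (by rw [hrange, hr]; exact Set.preimage_mono (Set.image_subset_range _ _))
      (by
        have h1 : (i ≫ pullback.fst q _) ⁻¹' Set.range (hW.fromSpec ≫ ι) =
            (i ≫ pullback.fst q _) ⁻¹' U := by
          ext t
          rw [Set.mem_preimage, Set.mem_preimage, hr]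
          refine ⟨fun ⟨w, hw, hwt⟩ => hwt ▸ ?_, fun ht => ?_⟩
          · exact (Set.ext_iff.1 hUW w).2 hw
          · obtain ⟨z, hz⟩ : (i ≫ pullback.fst q _) t ∈ Set.range ι := by
              have : i t ∈ Set.range i := Set.mem_range_self t
              rw [hrange] at this
              exact this
            exact ⟨z, (Set.ext_iff.1 hUW z).1 (hz ▸ ht :), hz⟩
        rw [h1]; exact hU.preimage (Scheme.Hom.continuous _))
    refine ⟨c, hc, fun z hz hzc => ?_⟩
    obtain ⟨p, rfl⟩ : z ∈ Set.range hW.fromSpec := by rwa [hW.range_fromSpec]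
    haveI hlfp : LocallyOfFinitePresentation (Spec.map (CommRingCat.ofHom (algebraMap R Γ(Z, W)))) := by
      show LocallyOfFinitePresentation (Spec.map φ)
      rw [hφ]; infer_instance
    have hp : (p : PrimeSpectrum Γ(Z, W)) ∈ Algebra.smoothLocus R Γ(Z, W) := hsm p (by
      rw [← Scheme.Hom.comp_apply, ← hφ] at hzc
      exact hzc)
    have h2 := (Descend.mem_smoothLocus_SpecMap_iff (R := R) (S := Γ(Z, W)) p).2 hp
    have h3 : hW.fromSpec ⁻¹ᵁ (ι ≫ q).smoothLocus =
        (Spec.map (CommRingCat.ofHom (algebraMap R Γ(Z, W)))).smoothLocus := by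
      rw [Scheme.Hom.preimage_smoothLocus_eq]
      congr 1
      exact hφ.symm
    show p ∈ hW.fromSpec ⁻¹ᵁ (ι ≫ q).smoothLocus
    rw [h3]; exact h2
  choose c hc hcW using hW
  refine ⟨∏ W ∈ Ws, c W, Finset.prod_ne_zero_iff.2 fun W _ => hc W, fun z hz => ?_⟩
  obtain ⟨W, hWmem, hzW⟩ := Set.mem_iUnion₂.1 (htop (Set.mem_univ z))
  refine hcW W z hzW ?_
  intro hcmem
  exact hz (Ideal.mem_of_dvd _ (Finset.dvd_prod_of_mem c hWmem) hcmem)

end Groth.Agent.SmoothStrat4
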