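import Groth.Agent.Lib.SmoothStrat4.Alg
import Groth.Agent.Lib.RedSep.Basic
import Mathlib

/-!
# Smoothness stratification over a field after a finite purely inseparable extension
-/

set_option autoImplicit false
set_option backward.isDefEq.respectTransparency.types false

universe u

open AlgebraicGeometry CategoryTheory Limits TensorProduct TopologicalSpace

namespace Groth.Agent.SmoothStrat4

variable {K : Type u} [Field K] {X : Scheme.{u}} (f : X ⟶ Spec (CommRingCat.of K))

/-- The map on spectra of a field extension. -/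
noncomputable abbrev σ (K L : Type u) [Field K] [Field L] [Algebra K L] :
    Spec (CommRingCat.of L) ⟶ Spec (CommRingCat.of K) :=
  Spec.map (CommRingCat.ofHom (algebraMap K L))

/-- Over `L` the part of `X` above `D` carries a smooth subscheme structure. -/
def Piece (L : Type u) [Field L] [Algebra K L] (D : Set X) : Prop :=
  ∃ (T : Scheme.{u}) (i : T ⟶ pullback f (σ K L)), IsImmersion i ∧
    Set.range i = pullback.fst f (σ K L) ⁻¹' D ∧ Smooth (i ≫ pullback.snd f (σ K L))

theorem Piece.mono {L L' : Type u} [Field L] [Field L'] [Algebra K L] [Algebra K L'] [Algebra L L']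
    [IsScalarTower K L L'] {D : Set X} (h : Piece f L D) : Piece f L' D := by
  obtain ⟨T, i, _, hr, hs⟩ := h
  let τ := σ L L'
  have hτ : τ ≫ σ K L = σ K L' := by
    rw [← Spec.map_comp, ← CommRingCat.ofHom_comp, ← IsScalarTower.algebraMap_eq]
  let m : pullback f (σ K L') ⟶ pullback f (σ K L) :=
    pullback.lift (pullback.fst _ _) (pullback.snd _ _ ≫ τ)
      (by rw [Category.assoc, hτ, pullback.condition])
  have hsq : IsPullback m (pullback.snd f (σ K L')) (pullback.snd f (σ K L)) τ :=
    IsPullback.of_right (h₁₂ := pullback.fst f (σ K L)) (h₂₂ := σ K L)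
      (by rw [pullback.lift_fst, hτ]; exact IsPullback.of_hasPullback _ _)
      (pullback.lift_snd _ _ _) (IsPullback.of_hasPullback _ _)
  refine ⟨pullback i m, pullback.snd i m, inferInstance, ?_, ?_⟩
  · rw [Scheme.Pullback.range_snd, hr, ← Set.preimage_comp]
    congr 1
    rw [← TopCat.coe_comp, ← Scheme.Hom.comp_base, pullback.lift_fst]
  · exact MorphismProperty.of_isPullback (P := @Smooth)
      ((IsPullback.of_hasPullback i m).paste_vert hsq) hs

/-- Pieces over intermediate fields can be compared. -/
theorem Piece.mono_intermediate {P : Type u} [Field P] [Algebra K P] {L L' : IntermediateField K P}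
    (hle : L ≤ L') {D : Set X} (h : Piece f L D) : Piece f L' D := by
  letI : Algebra L L' := (IntermediateField.inclusion hle).toRingHom.toAlgebra
  haveI : IsScalarTower K L L' := IsScalarTower.of_algebraMap_eq (R := K) (S := L) (A := L')
    fun x => ((IntermediateField.inclusion hle).commutes x).symm
  exact h.mono f

/-- A piece from a smooth quotient by nilpotents of the base change of an affine immersion. -/
theorem piece_of_smooth {L : Type u} [Field L] [Algebra K L] {Aa : Type u} [CommRing Aa] [Algebra K Aa]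
    (h : Spec (CommRingCat.of Aa) ⟶ X) [IsImmersion h]
    (h2 : h ≫ f = Spec.map (CommRingCat.ofHom (algebraMap K Aa))) {S : Type u} [CommRing S]
    [Algebra L S] [Algebra.Smooth L S] (ψ : L ⊗[K] Aa →ₐ[L] S) (hψ : Function.Surjective ψ)
    (hker : ∀ x, ψ x = 0 → IsNilpotent x) :
    Piece f L (Set.range h) := by
  have hsq : IsPullback
      (Spec.map (CommRingCat.ofHom (Algebra.TensorProduct.includeRight : Aa →ₐ[K] L ⊗[K] Aa).toRingHom))
      (Spec.map (CommRingCat.ofHom (Algebra.TensorProduct.includeLeftRingHom : L →+* L ⊗[K] Aa)))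
      (h ≫ f) (σ K L) := by
    have h1 := isPullback_SpecMap_of_isPushout _ _ _ _
      (CommRingCat.isPushout_tensorProduct K L Aa).flip
    rw [h2]
    exact h1
  let m := pullback.lift
    (Spec.map (CommRingCat.ofHom (Algebra.TensorProduct.includeRight : Aa →ₐ[K] L ⊗[K] Aa).toRingHom) ≫ h)
    (Spec.map (CommRingCat.ofHom (Algebra.TensorProduct.includeLeftRingHom : L →+* L ⊗[K] Aa)))
    (by rw [Category.assoc, hsq.w])
  have hm : IsPullback
      (Spec.map (CommRingCat.ofHom (Algebra.TensorProduct.includeRight : Aa →ₐ[K] L ⊗[K] Aa).toRingHom))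
      m h (pullback.fst f (σ K L)) :=
    IsPullback.of_bot (by rw [pullback.lift_snd]; exact hsq) (pullback.lift_fst _ _ _).symm
      (IsPullback.of_hasPullback _ _)
  haveI : IsImmersion m := MorphismProperty.of_isPullback (P := @IsImmersion) hm inferInstance
  let c := Spec.map (CommRingCat.ofHom ψ.toRingHom)
  haveI : IsClosedImmersion c := IsClosedImmersion.spec_of_surjective _ hψ
  haveI : Surjective c := ⟨fun p => by
    have hp : p ∈ PrimeSpectrum.zeroLocus (RingHom.ker ψ.toRingHom : Set (L ⊗[K] Aa)) :=
      fun x hx => Ideal.IsPrime.mem_of_pow_mem p.2 _ ((hker x hx).choose_spec ▸ p.1.zero_mem)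
    rw [← range_comap_of_surjective _ _ hψ] at hp
    exact hp⟩
  refine ⟨Spec (CommRingCat.of S), c ≫ m, inferInstance, ?_, ?_⟩
  · rw [Scheme.Hom.comp_base, TopCat.coe_comp, Set.range_comp, c.surjective.range_eq,
      Set.image_univ, ← hm.isoPullback_hom_snd, Scheme.Hom.comp_base, TopCat.coe_comp,
      Set.range_comp, hm.isoPullback.hom.surjective.range_eq, Set.image_univ,
      Scheme.Pullback.range_snd]
  · rw [Category.assoc, pullback.lift_snd, ← Spec.map_comp]
    refine (HasRingHomProperty.Spec_iff (P := @Smooth)).2 ?_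
    have h3 : (CommRingCat.ofHom Algebra.TensorProduct.includeLeftRingHom ≫
        CommRingCat.ofHom ψ.toRingHom).hom = algebraMap L S := RingHom.ext ψ.commutes
    rw [h3]
    exact RingHom.smooth_algebraMap.2 inferInstance

variable [LocallyOfFiniteType f] [QuasiCompact f]

theorem exists_piece (P : Type u) [Field P] [Algebra K P] [IsPurelyInseparable K P] [PerfectField P]
    (Z : Closeds X) (hZ : Z ≠ ⊥) :
    ∃ (Z' : Closeds X) (L : IntermediateField K P), Z' < Z ∧ FiniteDimensional K L ∧
      Piece f L ((Z : Set X) \ Z') := by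
  let J := Scheme.IdealSheafData.vanishingIdeal Z
  let ι := J.subschemeι
  haveI : IsReduced J.subscheme := RedSepLib.isReduced_vanishingIdeal_subscheme _
  have hrange : Set.range ι = (Z : Set X) := by
    rw [Scheme.IdealSheafData.range_subschemeι, Scheme.IdealSheafData.coe_support_vanishingIdeal]
  obtain ⟨z⟩ : Nonempty J.subscheme := by
    by_contra h
    rw [not_nonempty_iff] at h
    exact hZ (Closeds.ext (by rw [← hrange, Set.range_eq_empty]; rfl))
  obtain ⟨W, hW, hzW, -⟩ :=
    exists_isAffineOpen_mem_and_subset (X := J.subscheme) (x := z) (U := ⊤) trivial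
  let A := Γ(J.subscheme, W)
  let g : Spec A ⟶ X := hW.fromSpec ≫ ι
  let φ := Spec.preimage (g ≫ f)
  have hφ : Spec.map φ = g ≫ f := Spec.map_preimage _
  letI : Algebra K A := φ.hom.toAlgebra
  haveI : Algebra.FiniteType K A := by
    have h : LocallyOfFiniteType (Spec.map φ) := hφ ▸ inferInstance
    exact (HasRingHomProperty.Spec_iff (P := @LocallyOfFiniteType)).1 h
  haveI : Nonempty W := ⟨⟨z, hzW⟩⟩
  haveI : Nontrivial A := Scheme.component_nontrivial _ W
  obtain ⟨a, L, S, _, _, ψ, ha, hL, hψ, hsm, hker⟩ := exists_smooth_red (K := K) (P := P) A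
  let Aa := Localization.Away a
  let h : Spec (CommRingCat.of Aa) ⟶ X := Spec.map (CommRingCat.ofHom (algebraMap A Aa)) ≫ g
  haveI : IsOpenImmersion (Spec.map (CommRingCat.ofHom (algebraMap A Aa))) :=
    IsOpenImmersion.of_isLocalization a
  let O : J.subscheme.Opens :=
    hW.fromSpec ''ᵁ (Spec.map (CommRingCat.ofHom (algebraMap A Aa))).opensRange
  let Z' : Closeds X := ⟨ι '' (O : Set J.subscheme)ᶜ, ι.isClosedEmbedding.isClosedMap _ O.2.isClosed_compl⟩
  have hrh : Set.range h = (Z : Set X) \ Z' := by
    show Set.range (Spec.map _ ≫ hW.fromSpec ≫ ι) = _ \ (ι '' (O : Set J.subscheme)ᶜ)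
    rw [← Category.assoc, Scheme.Hom.comp_base, TopCat.coe_comp, Set.range_comp, ← hrange,
      ← Set.image_univ, ← Set.image_univ, ← Set.image_sdiff ι.isClosedEmbedding.injective,
      Set.sdiff_compl, Set.univ_inter, Set.image_univ]
    congr 1
    show Set.range (Spec.map _ ≫ hW.fromSpec) = hW.fromSpec '' Set.range (Spec.map _)
    rw [Scheme.Hom.comp_base, TopCat.coe_comp, Set.range_comp]
  refine ⟨Z', L, ⟨?_, ?_⟩, hL, ?_⟩
  · show ι '' _ ⊆ (Z : Set X)
    rw [← hrange]; exact Set.image_subset_range _ _
  · intro hle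
    obtain ⟨⟨q⟩⟩ : Nonempty (PrimeSpectrum Aa) := by
      haveI : Nontrivial Aa := by
        refine nontrivial_of_ne 1 0 fun h10 => ha ?_
        obtain ⟨⟨_, n, rfl⟩, hn⟩ := (IsLocalization.map_eq_zero_iff (Submonoid.powers a) Aa (1 : A)).1
          (by rw [map_one]; exact h10)
        exact ⟨n, by simpa using hn⟩
      exact inferInstance
    have hq : h ⟨q, ‹_›⟩ ∈ (Z : Set X) \ Z' := hrh ▸ Set.mem_range_self _
    exact hq.2 (hle hq.1)
  · rw [← hrh]
    exact piece_of_smooth f h (by
      rw [Category.assoc, ← hφ, ← Spec.map_comp, IsScalarTower.algebraMap_eq K A Aa]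
      rfl) ψ hψ hker

/-- A finite stratification by locally closed subsets which become smooth over a finite purely
inseparable extension. -/
theorem exists_chain (P : Type u) [Field P] [Algebra K P] [IsPurelyInseparable K P] [PerfectField P]
    (Z : Closeds X) :
    ∃ (t : ℕ) (C : Fin (t + 1) → Closeds X) (L : IntermediateField K P), Antitone C ∧ C 0 = Z ∧
      C (Fin.last t) = ⊥ ∧ FiniteDimensional K L ∧
      ∀ i : Fin t, Piece f L ((C i.castSucc : Set X) \ C i.succ) := by
  haveI : IsLocallyNoetherian X := LocallyOfFiniteType.isLocallyNoetherian f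
  haveI : CompactSpace X := QuasiCompact.compactSpace_of_compactSpace f
  haveI : IsNoetherian X := ⟨⟩
  induction Z using WellFoundedLT.induction with
  | _ Z ih =>
    by_cases hZ : Z = ⊥
    · exact ⟨0, fun _ => Z, ⊥, fun _ _ _ => le_rfl, rfl, hZ, inferInstance, fun i => i.elim0⟩
    obtain ⟨Z', L, hlt, hL, hgood⟩ := exists_piece f P Z hZ
    obtain ⟨t, C, L', hC, hC0, hCt, hL', hCg⟩ := ih Z' hlt
    refine ⟨t + 1, Fin.cons Z C, L ⊔ L', ?_, rfl, ?_, inferInstance, ?_⟩
    · refine Fin.antitone_iff_succ_le.mpr fun i => ?_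
      induction i using Fin.cases with
      | zero => simp [hC0, hlt.le]
      | succ i => simpa [Fin.cons_succ, ← Fin.succ_castSucc] using hC (Fin.castSucc_le_succ i)
    · rw [← Fin.succ_last, Fin.cons_succ, hCt]
    · intro i
      induction i using Fin.cases with
      | zero => simpa [hC0] using hgood.mono_intermediate f le_sup_left
      | succ i =>
        simpa [Fin.cons_succ, ← Fin.succ_castSucc] using (hCg i).mono_intermediate f le_sup_right

end Groth.Agent.SmoothStrat4
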