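import Groth.Agent.Lib.SmoothStrat4.Core
import Groth.Agent.Lib.RadStrat4.Point
import Mathlib

/-!
# The stratification theorem over an integral Noetherian affine base
-/

set_option autoImplicit false
set_option backward.isDefEq.respectTransparency.types false

universe u

open AlgebraicGeometry CategoryTheory Limits TensorProduct TopologicalSpace

namespace Groth.Agent.SmoothStrat4

/-- A finite free domain model of a finite purely inseparable extension of the fraction field. -/
theorem exists_radicial_model (D K L : Type u) [CommRing D] [IsDomain D] [Field K] [Algebra D K]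
    [IsFractionRing D K] [Field L] [Algebra K L] [Algebra D L] [IsScalarTower D K L]
    [FiniteDimensional K L] [IsPurelyInseparable K L] :
    ∃ (R : Type u) (_ : CommRing R) (_ : Algebra D R) (_ : Algebra R L) (_ : IsScalarTower D R L),
      IsDomain R ∧ IsFractionRing R L ∧ Module.Finite D R ∧ Module.Free D R ∧ Nontrivial R ∧
      (∀ (Ω : Type u) [Field Ω] (φ ψ : R →+* Ω),
        φ.comp (algebraMap D R) = ψ.comp (algebraMap D R) → φ = ψ) ∧
      ∀ c : R, c ≠ 0 → ∃ g : D, g ≠ 0 ∧ c ∣ algebraMap D R g := by
  classical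
  let ℓ := ringExpChar K
  have hℓ : ℓ = 1 ∨ ℓ.Prime := (expChar_is_prime_or_one K ℓ).symm
  have hlift : ∀ z : K, ∃ a ∈ nonZeroDivisors D, ∃ r : D, algebraMap D K r = a • z := by
    intro z
    obtain ⟨⟨r, a⟩, h⟩ := IsLocalization.surj (nonZeroDivisors D) z
    exact ⟨a, a.2, r, by rw [Algebra.smul_def, mul_comm]; exact h.symm⟩
  have hS : ∀ a ∈ nonZeroDivisors D, algebraMap D K a ≠ 0 := fun a ha =>
    IsFractionRing.to_map_ne_zero_of_mem_nonZeroDivisors ha
  obtain ⟨R, _, _, alg', _, π, ι, _, _, b, β, hb, hrad⟩ :=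
    RadStrat4.hasModel_top (A := D) (R' := D) (K' := K) (L := L) (nonZeroDivisors D) hS hℓ hlift
  cases nonempty_fintype ι
  let β' : Module.Basis ι K L := β.map IntermediateField.topEquiv.toLinearEquiv
  have hβ' : ∀ i, π (b i) = β' i := fun i => hb i
  have hexp : ∀ r, π r = ∑ i, algebraMap D K (b.repr r i) • β' i := fun r => by
    conv_lhs => rw [← b.sum_repr r, map_sum]
    refine Finset.sum_congr rfl fun i _ => ?_
    rw [map_smul, hβ', algebraMap_smul]
  have hinj : Function.Injective π := (injective_iff_map_eq_zero π).2 fun r hr => by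
    rw [hexp] at hr
    have h := fun i => Fintype.linearIndependent_iff.1 β'.linearIndependent _ hr i
    exact b.repr.map_eq_zero_iff.1 (Finsupp.ext fun i =>
      IsFractionRing.injective D K ((h i).trans (map_zero _).symm))
  haveI : IsDomain R := hinj.isDomain π.toRingHom
  letI : Algebra R L := π.toRingHom.toAlgebra
  haveI : IsScalarTower D R L :=
    IsScalarTower.of_algebraMap_eq (R := D) (S := R) (A := L) fun x => (π.commutes x).symm
  have hclear : ∀ z : L, ∃ a ∈ nonZeroDivisors D, ∃ r : R, π r = algebraMap D L a * z := by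
    intro z
    obtain ⟨a, ha, hc⟩ := RadStrat4.exists_common_scale (ι := ι) (nonZeroDivisors D)
      (fun i => β'.repr z i) hlift
    choose r hr using hc
    refine ⟨a, ha, ∑ i, r i • b i, ?_⟩
    rw [map_sum]
    conv_rhs => rw [← β'.sum_repr z, Finset.mul_sum]
    refine Finset.sum_congr rfl fun i _ => ?_
    rw [map_smul, hβ', ← algebraMap_smul K (r i), hr i, smul_assoc, Algebra.smul_def a]
  haveI : FaithfulSMul R L := (faithfulSMul_iff_algebraMap_injective R L).2 hinj
  refine ⟨R, inferInstance, inferInstance, inferInstance, inferInstance, inferInstance,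
    IsFractionRing.of_field R L fun z => ?_, Module.Finite.of_basis b, Module.Free.of_basis b,
    inferInstance, fun Ω _ φ ψ h => hrad Ω ?_ φ ψ h, fun c hc => ?_⟩
  · obtain ⟨a, ha, r, hr⟩ := hclear z
    refine ⟨r, algebraMap D R a, ?_⟩
    rw [show algebraMap R L r = π r from rfl, hr, ← IsScalarTower.algebraMap_apply,
      mul_div_cancel_left₀]
    rw [IsScalarTower.algebraMap_apply D K L]
    exact (_root_.map_ne_zero _).2 (hS a ha)
  · rcases eq_or_ne ℓ 1 with h1 | h1
    · exact Or.inl h1
    right
    have h0 : (ℓ : D) = 0 := IsFractionRing.injective D K (by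
      rw [map_natCast, map_zero]
      exact RadStrat4.natCast_eq_zero_of_expChar K ℓ h1)
    have h2 := congrArg (φ.comp (algebraMap D R)) h0
    simpa using h2
  · obtain ⟨a, ha, r, hr⟩ := hclear (algebraMap R L c)⁻¹
    refine ⟨a, nonZeroDivisors.ne_zero ha, r, ?_⟩
    apply hinj
    rw [AlgHom.commutes, map_mul, hr]
    have : π c ≠ 0 := fun h => hc (hinj (by rw [h, map_zero]))
    change _ = π c * (_ * (π c)⁻¹)
    field_simp

variable {D : Type u} [CommRing D] [IsDomain D] [IsNoetherianRing D]

/-- Over a nonempty open of an integral Noetherian affine scheme, after a finite locally free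
radicial covering, a morphism of finite type has a finite stratification with smooth strata. -/
theorem exists_smoothStrat {X : Scheme.{u}} (f : X ⟶ Spec (CommRingCat.of D)) [LocallyOfFiniteType f]
    [QuasiCompact f] :
    ∃ (W : (Spec (CommRingCat.of D)).Opens) (V : Scheme.{u}) (v : V ⟶ W.toScheme),
      (⟨⊥, Ideal.isPrime_bot⟩ : PrimeSpectrum D) ∈ W ∧ Surjective v ∧ UniversallyInjective v ∧
      Mor2.IsFinLocFree v ∧ SmoothStrat (pullback.snd f (v ≫ W.ι)) := by
  classical
  let K := FractionRing D
  let σDK := Spec.map (CommRingCat.ofHom (algebraMap D K))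
  haveI : IsPreimmersion σDK := IsPreimmersion.of_isLocalization (nonZeroDivisors D)
  let XK := pullback f σDK
  let fK : XK ⟶ Spec (CommRingCat.of K) := pullback.snd _ _
  let p : XK ⟶ X := pullback.fst _ _
  let P := perfectClosure K (AlgebraicClosure K)
  obtain ⟨t, C, L, hC, hC0, hClast, hL, hpiece⟩ := exists_chain fK P ⊤
  haveI : IsPurelyInseparable K L := IntermediateField.isPurelyInseparable_tower_bot K P L
  obtain ⟨R, _, _, _, _, _, _, _, _, _, hradR, hdvd⟩ := exists_radicial_model D K L
  haveI : IsNoetherianRing R := isNoetherian_of_tower D inferInstance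
  let ρ := Spec.map (CommRingCat.ofHom (algebraMap D R))
  haveI : IsFinite ρ := (IsFinite.SpecMap_iff _).2 (RingHom.finite_algebraMap.2 inferInstance)
  haveI : Flat ρ := (HasRingHomProperty.Spec_iff (P := @Flat)).2
    (RingHom.flat_algebraMap_iff.2 inferInstance)
  haveI : LocallyOfFinitePresentation ρ :=
    (HasRingHomProperty.Spec_iff (P := @LocallyOfFinitePresentation)).2
      (RingHom.finitePresentation_algebraMap.2
        (Algebra.FinitePresentation.of_finiteType.1 inferInstance))
  haveI : Module.FaithfullyFlat D R := inferInstance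
  haveI : Surjective ρ := ⟨fun x => PrimeSpectrum.comap_surjective_of_faithfullyFlat x⟩
  haveI : UniversallyInjective ρ := by
    refine ((tfae_universallyInjective ρ).out 0 1).2 ?_
    intro Ω inst g₁ g₂ hg
    obtain ⟨φ, rfl⟩ := Spec.map_surjective g₁
    obtain ⟨ψ, rfl⟩ := Spec.map_surjective g₂
    have hg' : Spec.map (CommRingCat.ofHom (algebraMap D R) ≫ φ) =
        Spec.map (CommRingCat.ofHom (algebraMap D R) ≫ ψ) := by
      rw [Spec.map_comp, Spec.map_comp]; exact hg
    congr 1
    exact CommRingCat.hom_ext (hradR Ω φ.hom ψ.hom (congrArg CommRingCat.Hom.hom (Spec.map_injective hg')))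
  let XR := pullback f ρ
  let qR : XR ⟶ Spec (CommRingCat.of R) := pullback.snd _ _
  let ρX : XR ⟶ X := pullback.fst _ _
  haveI : IsLocallyNoetherian XR := LocallyOfFiniteType.isLocallyNoetherian qR
  -- the two descriptions of the generic fibre over `L`
  let σKL := Spec.map (CommRingCat.ofHom (algebraMap K L))
  let σRL := Spec.map (CommRingCat.ofHom (algebraMap R L))
  have hσ : σKL ≫ σDK = σRL ≫ ρ := by
    rw [← Spec.map_comp, ← Spec.map_comp, ← CommRingCat.ofHom_comp, ← CommRingCat.ofHom_comp,
      ← IsScalarTower.algebraMap_eq, ← IsScalarTower.algebraMap_eq]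
  let e : pullback fK σKL ≅ pullback qR σRL :=
    pullbackLeftPullbackSndIso f σDK σKL ≪≫ pullback.congrHom rfl hσ ≪≫
      (pullbackLeftPullbackSndIso f ρ σRL).symm
  have he1 : e.hom ≫ pullback.fst qR σRL ≫ ρX = pullback.fst fK σKL ≫ p := by
    simp [e, fK, qR, ρX, p, pullback.map]
    erw [pullback.lift_fst]
    simp
  have he2 : e.hom ≫ pullback.snd qR σRL = pullback.snd fK σKL := by
    simp [e, fK, qR, pullback.map]
    erw [pullback.lift_snd]
    simp
  -- the chain on `XR`
  have hp : Topology.IsEmbedding p := p.isEmbedding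
  let C' : Fin (t + 2) → Closeds XK := Fin.cons ⊤ C
  let CR : Fin (t + 2) → Closeds XR := Fin.cons ⊤ fun j =>
    ⟨ρX ⁻¹' closure (p '' (C j : Set XK)), isClosed_closure.preimage ρX.continuous⟩
  have hmem : ∀ (j : Fin (t + 2)) (x : ↥(pullback fK σKL)),
      pullback.fst qR σRL (e.hom x) ∈ CR j ↔ pullback.fst fK σKL x ∈ C' j := by
    intro j x
    induction j using Fin.cases with
    | zero => exact iff_of_true trivial trivial
    | succ j =>
      simp only [CR, C', Fin.cons_succ]
      show ρX (pullback.fst qR σRL (e.hom x)) ∈ closure (p '' (C j : Set XK)) ↔ _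
      rw [← Scheme.Hom.comp_apply, ← Scheme.Hom.comp_apply, he1, Scheme.Hom.comp_apply,
        ← Set.mem_preimage, ← hp.closure_eq_preimage_closure_image, (C j).isClosed.closure_eq]
      rfl
  have hCR : Antitone CR := by
    refine Fin.antitone_iff_succ_le.mpr fun i => ?_
    induction i using Fin.cases with
    | zero => simp [CR]
    | succ i =>
      simp only [CR, Fin.cons_succ, ← Fin.succ_castSucc]
      exact fun x hx => closure_mono (Set.image_mono (hC (Fin.castSucc_le_succ i))) hx
  have hpiece' : ∀ i : Fin (t + 1), Piece fK L ((C' i.castSucc : Set XK) \ C' i.succ) := by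
    intro i
    induction i using Fin.cases with
    | zero =>
      have h0 : ((C' (0 : Fin (t + 1)).castSucc : Set XK) \ C' (0 : Fin (t + 1)).succ) = ∅ := by
        simp [C', hC0]
      rw [h0]
      let T := Spec (CommRingCat.of (Localization.Away (0 : L)))
      haveI hE : IsEmpty T := by
        haveI : Subsingleton (Localization.Away (0 : L)) :=
          IsLocalization.subsingleton (M := Submonoid.powers (0 : L)) (Submonoid.mem_powers 0)
        exact inferInstanceAs (IsEmpty (PrimeSpectrum (Localization.Away (0 : L))))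
      haveI : IsEmpty (CommRingCat.of (Localization.Away (0 : L)) : CommRingCat) → False := fun h => h.false 0
      let i₀ : T ⟶ pullback fK σKL := (isInitialOfIsEmpty (X := T)).to _
      refine ⟨T, i₀, inferInstance, ?_, ?_⟩
      · rw [Set.preimage_empty, Set.range_eq_empty]
      · have h1 : i₀ ≫ pullback.snd fK σKL =
            Spec.map (CommRingCat.ofHom (algebraMap L (Localization.Away (0 : L)))) :=
          (isInitialOfIsEmpty (X := T)).hom_ext _ _
        rw [h1]
        exact (HasRingHomProperty.Spec_iff (P := @Smooth)).2 (RingHom.smooth_algebraMap.2 inferInstance)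
    | succ i => simpa [C', Fin.cons_succ, ← Fin.succ_castSucc] using hpiece i
  have hstr : ∀ i : Fin (t + 1), ∃ c : R, c ≠ 0 ∧ ∀ z,
      (stratum (Scheme.IdealSheafData.vanishingIdeal (CR i.castSucc))
        (Scheme.IdealSheafData.vanishingIdeal (CR i.succ)) ≫ qR) z ∈ PrimeSpectrum.basicOpen c →
      z ∈ (stratum (Scheme.IdealSheafData.vanishingIdeal (CR i.castSucc))
        (Scheme.IdealSheafData.vanishingIdeal (CR i.succ)) ≫ qR).smoothLocus := by
    intro i
    obtain ⟨T, iT, _, hr, hs⟩ := hpiece' i
    haveI : Smooth ((iT ≫ e.hom) ≫ pullback.snd qR σRL) := by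
      rw [Category.assoc, he2]; exact hs
    haveI : _root_.AlgebraicGeometry.IsReduced
        (Scheme.IdealSheafData.vanishingIdeal (CR i.castSucc)).subscheme :=
      RedSepLib.isReduced_vanishingIdeal_subscheme _
    refine exists_ne_zero_smoothLocus (R := R) (L := L) qR _ (iT ≫ e.hom) ?_
    ext y
    obtain ⟨x, rfl⟩ := e.hom.surjective y
    have h1 : e.hom x ∈ Set.range (iT ≫ e.hom) ↔ x ∈ Set.range iT := by
      constructor
      · rintro ⟨w, hw⟩; exact ⟨w, e.hom.isOpenEmbedding.injective hw⟩
      · rintro ⟨w, rfl⟩; exact ⟨w, rfl⟩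
    rw [h1, hr, Set.mem_preimage, Set.mem_preimage]
    have h2 : Set.range (stratum (Scheme.IdealSheafData.vanishingIdeal (CR i.castSucc))
        (Scheme.IdealSheafData.vanishingIdeal (CR i.succ))) = (CR i.castSucc : Set XR) \ CR i.succ := by
      rw [Scheme.Hom.comp_base, TopCat.coe_comp, Set.range_comp, Scheme.Opens.range_ι]
      show _ '' (_ ⁻¹' ((Scheme.IdealSheafData.vanishingIdeal (CR i.succ)).support : Set XR)ᶜ) = _
      rw [Set.image_preimage_eq_inter_range, Scheme.IdealSheafData.range_subschemeι,
        Scheme.IdealSheafData.coe_support_vanishingIdeal,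
        Scheme.IdealSheafData.coe_support_vanishingIdeal, Set.inter_comm]
      rfl
    rw [h2, Set.mem_sdiff, Set.mem_sdiff]
    exact and_congr (hmem _ x).symm (not_congr (hmem _ x).symm)
  choose c hc hcs using hstr
  obtain ⟨g, hg, hgc⟩ := hdvd (∏ i, c i) (Finset.prod_ne_zero_iff.2 fun i _ => hc i)
  let W : (Spec (CommRingCat.of D)).Opens := PrimeSpectrum.basicOpen g
  let v := pullback.snd ρ W.ι
  let j := pullback.fst ρ W.ι
  refine ⟨W, pullback ρ W.ι, v, ?_, MorphismProperty.pullback_snd _ _ inferInstance,
    MorphismProperty.pullback_snd _ _ inferInstance,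
    ⟨MorphismProperty.pullback_snd _ _ inferInstance, MorphismProperty.pullback_snd _ _ inferInstance,
      MorphismProperty.pullback_snd _ _ inferInstance⟩, ?_⟩
  · exact fun h => hg (by simpa using h)
  have hcond : v ≫ W.ι = j ≫ ρ := pullback.condition.symm
  let π : pullback f (v ≫ W.ι) ⟶ XR :=
    pullback.lift (pullback.fst _ _) (pullback.snd _ _ ≫ j)
      (by rw [Category.assoc, ← hcond, pullback.condition])
  have sq : IsPullback π (pullback.snd f (v ≫ W.ι)) qR j :=
    IsPullback.of_right (h₁₂ := ρX) (h₂₂ := ρ)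
      (by rw [pullback.lift_fst, ← hcond]; exact IsPullback.of_hasPullback _ _)
      (pullback.lift_snd _ _ _) (IsPullback.of_hasPullback _ _)
  refine SmoothStrat.of_chain sq CR hCR rfl ?_ fun i => ?_
  · have h : CR (Fin.last t).succ =
        ⟨ρX ⁻¹' closure (p '' (C (Fin.last t) : Set XK)), isClosed_closure.preimage ρX.continuous⟩ := by
      simp only [CR, Fin.cons_succ]
    rw [← Fin.succ_last, h]
    refine Closeds.ext ?_
    show ρX ⁻¹' closure (p '' (C (Fin.last t) : Set XK)) = _
    rw [hClast, Closeds.coe_bot, Set.image_empty, closure_empty, Set.preimage_empty]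
    rfl
  let φ := stratum (Scheme.IdealSheafData.vanishingIdeal (CR i.castSucc))
        (Scheme.IdealSheafData.vanishingIdeal (CR i.succ)) ≫ qR
  haveI : Smooth (pullback.fst φ j ≫ φ) := by
    rw [← Scheme.Hom.smoothLocus_eq_top_iff, ← Scheme.Hom.preimage_smoothLocus_eq, eq_top_iff]
    intro z _
    refine hcs i _ ?_
    rw [← Scheme.Hom.comp_apply, pullback.condition, Scheme.Hom.comp_apply]
    intro hcmem
    have hw : (v (pullback.snd φ j z)).1 ∈ W := (v (pullback.snd φ j z)).2
    refine hw ?_
    have h1 : (v ≫ W.ι) (pullback.snd φ j z) = ρ (j (pullback.snd φ j z)) := by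
      rw [hcond]; rfl
    show g ∈ ((v ≫ W.ι) (pullback.snd φ j z)).asIdeal
    rw [h1]
    show algebraMap D R g ∈ (j (pullback.snd φ j z)).asIdeal
    exact Ideal.mem_of_dvd _ ((Finset.dvd_prod_of_mem c (Finset.mem_univ i)).trans hgc) hcmem
  haveI : Smooth (pullback.snd φ j ≫ j) := by rw [← pullback.condition]; infer_instance
  rw [← Scheme.Hom.smoothLocus_eq_top_iff, eq_top_iff]
  intro z _
  rw [← Descend.mem_smoothLocus_comp_iff _ j, Scheme.Hom.smoothLocus_eq_top]
  trivial

end Groth.Agent.SmoothStrat4
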